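import Groth.Agent.RelVAFib14.Span
import Groth.Agent.PnEmb.Ample
import Groth.Agent.Clifford24.CanonicalEmb
import Groth.Agent.Coherent.CohBC.PushStructureIso

/-!
# Relative very ampleness from fibrewise very ampleness and vanishing of `H¹`
-/

set_option autoImplicit false
set_option linter.style.haveILetI false
set_option backward.isDefEq.respectTransparency.types false
set_option maxHeartbeats 1000000

universe u

open CategoryTheory CategoryTheory.Limits AlgebraicGeometry Opposite TopologicalSpace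
open Groth.Agent.Coherent Groth.Agent.PicLib Groth.Agent.AmpleLib Groth.Agent.CohExch

namespace Groth.Agent.RelVAFib14

variable {X S : Scheme.{u}} (f : X ⟶ S) (L : X.Modules)

/-- Very ampleness along an isomorphism of structure maps. -/
theorem isRelVeryAmplePn_of_isoSquare {X' X T' T : Scheme.{u}} (q : X ⟶ T) (q' : X' ⟶ T') (t : X' ⟶ X) (e : T' ⟶ T)
    [IsIso t] [IsIso e] (w : t ≫ q = q' ≫ e) {M : X.Modules} {M' : X'.Modules}
    (eM : (Scheme.Modules.pullback t).obj M ≅ M') (h : RelAmple.IsRelVeryAmplePn q M) :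
    RelAmple.IsRelVeryAmplePn q' M' := by
  obtain ⟨n, j, hj, hjq, ⟨eL⟩⟩ := h
  let pr₁ := pullback.fst (CohB1.ProjSpace.toSpec n (ULift.{u} ℤ)) (specULiftZIsTerminal.from T)
  let pr₂ : CohB1.ProjSpaceOver n T ⟶ T := pullback.snd (CohB1.ProjSpace.toSpec n (ULift.{u} ℤ)) (specULiftZIsTerminal.from T)
  let pr₁' := pullback.fst (CohB1.ProjSpace.toSpec n (ULift.{u} ℤ)) (specULiftZIsTerminal.from T')
  let pr₂' : CohB1.ProjSpaceOver n T' ⟶ T' := pullback.snd (CohB1.ProjSpace.toSpec n (ULift.{u} ℤ)) (specULiftZIsTerminal.from T')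
  let m : CohB1.ProjSpaceOver n T ⟶ CohB1.ProjSpaceOver n T' :=
    pullback.lift pr₁ (pr₂ ≫ inv e) (specULiftZIsTerminal.hom_ext _ _)
  let m' : CohB1.ProjSpaceOver n T' ⟶ CohB1.ProjSpaceOver n T :=
    pullback.lift (pullback.fst _ _) (pullback.snd _ _ ≫ e) (specULiftZIsTerminal.hom_ext _ _)
  have hm1 : m ≫ pr₁' = pr₁ := pullback.lift_fst _ _ _
  have hm2 : m ≫ pr₂' = pr₂ ≫ inv e := pullback.lift_snd _ _ _
  have hm1' : m' ≫ pr₁ = pr₁' := pullback.lift_fst _ _ _
  have hm2' : m' ≫ pr₂ = pr₂' ≫ e := pullback.lift_snd _ _ _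
  haveI : IsIso m := ⟨m', by
      apply pullback.hom_ext
      · exact (Category.assoc _ _ _).trans ((congrArg (m ≫ ·) hm1').trans (hm1.trans (Category.id_comp _).symm))
      · refine (Category.assoc _ _ _).trans ((congrArg (m ≫ ·) hm2').trans ((Category.assoc _ _ _).symm.trans ?_))
        rw [hm2, Category.assoc, IsIso.inv_hom_id, Category.comp_id]
        exact (Category.id_comp _).symm,
    by
      apply pullback.hom_ext
      · exact (Category.assoc _ _ _).trans ((congrArg (m' ≫ ·) hm1).trans (hm1'.trans (Category.id_comp _).symm))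
      · refine (Category.assoc _ _ _).trans ((congrArg (m' ≫ ·) hm2).trans ((Category.assoc _ _ _).symm.trans ?_))
        rw [hm2', Category.assoc, IsIso.hom_inv_id, Category.comp_id]
        exact (Category.id_comp _).symm⟩
  haveI := hj
  refine ⟨n, t ≫ j ≫ m, inferInstance, ?_, ⟨?_⟩⟩
  · show (t ≫ j ≫ m) ≫ pr₂' = q'
    refine (Category.assoc _ _ _).trans ((congrArg (t ≫ ·) ((Category.assoc _ _ _).trans ((congrArg (j ≫ ·) hm2).trans
      ((Category.assoc _ _ _).symm.trans (congrArg (· ≫ inv e) hjq))))).trans ?_)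
    rw [← Category.assoc, w, Category.assoc, IsIso.hom_inv_id, Category.comp_id]
  · let O := Twist.twistProjSpace n (ULift.{u} ℤ) 1
    exact eM.symm ≪≫ (Scheme.Modules.pullback t).mapIso (eL ≪≫ (Scheme.Modules.pullbackComp j pr₁).app O) ≪≫
      (Scheme.Modules.pullbackComp t (j ≫ pr₁)).app O ≪≫
      (Scheme.Modules.pullbackCongr (show t ≫ j ≫ pr₁ = (t ≫ j ≫ m) ≫ pr₁' from ((Category.assoc _ _ _).trans (congrArg (t ≫ ·) ((Category.assoc _ _ _).trans (congrArg (j ≫ ·) hm1)))).symm)).app O ≪≫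
      ((Scheme.Modules.pullbackComp (t ≫ j ≫ m) pr₁').app O).symm

theorem isFinLocFree_of_isInvertible {L : X.Modules} (hL : PicF.IsInvertible L) : FlatMod.IsFinLocFree L :=
  fun x => let ⟨U, hx, e⟩ := PicLib.isFinLocFreeOfRank_one hL x; ⟨U, 1, hx, e⟩

theorem isFP_of_isInvertible {L : X.Modules} (hL : PicF.IsInvertible L) : CohB1.IsFP L :=
  have := (CohBC.isCoh_of_isFinLocFree (isFinLocFree_of_isInvertible hL)).1
  Props12.isFP_of_isFinLocFree _ (isFinLocFree_of_isInvertible hL)

variable [IsProper f] [Flat f] [LocallyOfFinitePresentation f]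

/-- Over an affine base. -/
theorem isRelVeryAmplePn_of_fibres [IsAffine S] (hL : PicF.IsInvertible L)
    (hva : ∀ s : S, RelAmple.IsRelVeryAmplePn (f.fiberToSpecResidueField s) ((Scheme.Modules.pullback (f.fiberι s)).obj L))
    (hH1 : ∀ s : S, Subsingleton (CohIII.fiberH f L s 1)) :
    RelAmple.IsRelVeryAmplePn f L := by
  classical
  have hfp := isFP_of_isInvertible hL
  haveI : Coh.IsQCoh L := AmpleLib.isQCoh_of_isInvertible hL
  have hfl := CohBC.isFlatOver_of_isFinLocFree f (isFinLocFree_of_isInvertible hL)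
  have hchart : ∀ s : S, ∃ C : Chart f L, s ∈ C.U ∧ C.Flat ((0 : ℕ) : ℤ) := fun s => by
    obtain ⟨C, hC, -, -, h0, -⟩ := exists_zero_chart hfp hfl (V := ⊤) (s := s) trivial 1 (hH1 s)
    exact ⟨C, hC, by simpa using h0⟩
  let R := (Scheme.Modules.pushforward f).obj L
  have hRf : FlatMod.IsFinLocFree R := fun s => by
    obtain ⟨C, hC, h0⟩ := hchart s
    exact C.exists_trivial_nhd0 h0 hC
  haveI hRq : Coh.IsQCoh R := (CohBC.isCoh_of_isFinLocFree hRf).1
  haveI : Module.Finite Γ(S, ⊤) Γ(R, ⊤) :=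
    H8Lim.finite_sections_of_isFT (CohBC.isCoh_of_isFinLocFree hRf).2 (isAffineOpen_top S)
  obtain ⟨N, m, hm⟩ := Module.Finite.exists_fin (R := Γ(S, ⊤)) (M := Γ(R, ⊤))
  let m' : Fin (N + 1) → Γ(R, ⊤) := Fin.cons 0 m
  have hm' : Submodule.span Γ(S, ⊤) (Set.range m') = ⊤ := by
    refine top_le_iff.1 (hm.ge.trans (Submodule.span_mono ?_))
    rintro _ ⟨l, rfl⟩
    exact ⟨l.succ, Fin.cons_succ _ _ _⟩
  let σ : Fin (N + 1) → Γ(L, ⊤) := fun l => m' l
  have hfibspan : ∀ (s : S) (z : Γ((Scheme.Modules.pullback (f.fiberι s)).obj L, ⊤)),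
      ∃ c : Fin (N + 1) → S.residueField s, comb
        (f.fiberToSpecResidueField s : f.fiber s ⟶ Spec (CommRingCat.of (S.residueField s)))
        (fun l => Clifford24.fibSec f L s (σ l)) c = z := fun s z => by
    haveI : IsIso (CohBC.bc0 f (S.fromSpecResidueField s) (f.fiberToSpecResidueField s) (f.fiberι s) (f.fiber_fac s) L) :=
      isIso_bc0_of_flat (IsPullback.of_hasPullback f (S.fromSpecResidueField s))
        fun z => hchart (S.fromSpecResidueField s z)
    exact Clifford24.exists_fibre_span f L s m' hm' z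
  have hproper : ∀ s : S, IsProper (f.fiberToSpecResidueField s : f.fiber s ⟶ Spec (CommRingCat.of (S.residueField s))) :=
    fun s => MorphismProperty.pullback_snd (P := @IsProper) _ _ inferInstance
  have hcov : ∀ x : X, ∃ l, x ∈ glocus L (σ l) := fun x => by
    obtain ⟨z, hz⟩ : x ∈ Set.range (f.fiberι (f x)) := (f.range_fiberι (f x)).ge rfl
    let π : f.fiber (f x) ⟶ Spec (CommRingCat.of (S.residueField (f x))) := f.fiberToSpecResidueField (f x)
    haveI : IsProper π := hproper (f x)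
    obtain ⟨l, hl⟩ := exists_mem_of_span π
      (PicLoc.isInvertible_pullback _ hL) (hva (f x)) _ (hfibspan (f x)) z
    rw [glocus_pullSec (f.fiberι (f x)) hL (σ l)] at hl
    exact ⟨l, hz ▸ hl⟩
  obtain ⟨r, -, τ, hτ⟩ := UPLib.exists_hom_projSpace N (specULiftZIsTerminal.from X) hL σ hcov
  let i : X ⟶ CohB1.ProjSpaceOver N S := pullback.lift r f (specULiftZIsTerminal.hom_ext _ _)
  have hi1 : i ≫ pullback.fst _ _ = r := pullback.lift_fst _ _ _
  have hi2 : i ≫ pullback.snd _ _ = f := pullback.lift_snd _ _ _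
  obtain ⟨τ', hτ'⟩ : ∃ τ' : (Scheme.Modules.pullback (i ≫ pullback.fst (CohB1.ProjSpace.toSpec N (ULift.{u} ℤ))
      (specULiftZIsTerminal.from S))).obj (Twist.twistProjSpace N (ULift.{u} ℤ) 1) ≅ L,
      ∀ l, τ'.hom.app ⊤ (ProjUP.pullSec _ _ (ProjUP.coord N _ l)) = σ l := by
    rw [hi1]; exact ⟨τ, hτ⟩
  haveI : IsClosedImmersion i := Clifford24.isClosedImmersion_of_fibres f σ i hi2 τ' hτ' fun s r' hr' τr hτr => by
    let π : f.fiber s ⟶ Spec (CommRingCat.of (S.residueField s)) := f.fiberToSpecResidueField s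
    haveI : IsProper π := hproper s
    exact isClosedImmersion_of_span π
      (PicLoc.isInvertible_pullback _ hL) (hva s) (fun l => Clifford24.fibSec f L s (σ l)) (hfibspan s) r' hr' τr hτr
  exact ⟨N, i, inferInstance, hi2,
    ⟨τ'.symm ≪≫ ((Scheme.Modules.pullbackComp i (pullback.fst _ _)).app _).symm⟩⟩

omit [LocallyOfFinitePresentation f] in
theorem isRelVeryAmple_of_fibres [IsLocallyNoetherian S] (hL : PicF.IsInvertible L)
    (hva : ∀ s : S, RelAmple.IsRelVeryAmplePn (f.fiberToSpecResidueField s) ((Scheme.Modules.pullback (f.fiberι s)).obj L))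
    (hH1 : ∀ s : S, Subsingleton (CohIII.fiberH f L s 1)) :
    RelProj.IsRelVeryAmple f L := by
  haveI : LocallyOfFinitePresentation f := CohBC.locallyOfFinitePresentation_of_isLocallyNoetherian f
  refine (RelVALib.isRelVeryAmple_iff_of_openCover f _ hL (fun V : S.affineOpens => V.1) (iSup_affineOpens_eq_top S)).2
    fun V => ?_
  let f' := f ∣_ V.1
  haveI : IsAffine (V.1 : Scheme.{u}) := V.2
  have hpb := (isPullback_morphismRestrict f V.1).flip
  haveI : IsProper f' := MorphismProperty.of_isPullback hpb inferInstance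
  haveI : Flat f' := MorphismProperty.of_isPullback hpb inferInstance
  haveI : LocallyOfFinitePresentation f' := MorphismProperty.of_isPullback hpb inferInstance
  haveI : Coh.IsQCoh L := AmpleLib.isQCoh_of_isInvertible hL
  let j := (f ⁻¹ᵁ V.1).ι
  let L' := (Scheme.Modules.pullback j).obj L
  have hL' : PicF.IsInvertible L' := PicLoc.isInvertible_pullback _ hL
  haveI : Coh.IsQCoh L' := AmpleLib.isQCoh_of_isInvertible hL'
  have hva' : ∀ v, RelAmple.IsRelVeryAmplePn (f'.fiberToSpecResidueField v)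
      ((Scheme.Modules.pullback (f'.fiberι v)).obj L') := fun v => by
    obtain ⟨t, ht, -, -, -, ⟨et⟩⟩ := CohBC.exists_fibre_square hpb L v
    haveI : IsIso (Spec.map (V.1.ι.residueFieldMap v)) := inferInstance
    haveI : IsIso t := ht.isIso_fst_of_isIso
    exact isRelVeryAmplePn_of_isoSquare (f.fiberToSpecResidueField (V.1.ι v)) (f'.fiberToSpecResidueField v) t
      (Spec.map (V.1.ι.residueFieldMap v)) ht.w et (hva (V.1.ι v))
  have hH1' : ∀ v, Subsingleton (CohIII.fiberH f' L' v 1) := fun v => by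
    rw [subsingleton_fiberH_iff_rank (isFP_of_isInvertible hL') v 1, CohBC.fiberRank_pullback hpb L 1 v]
    exact (subsingleton_fiberH_iff_rank (isFP_of_isInvertible hL) _ 1).1 (hH1 _)
  let e : L' ≅ L.restrict j := ((Scheme.Modules.restrictFunctorIsoPullback j).app L).symm
  exact RelVALib.isRelVeryAmple_of_isRelVeryAmplePn f' _ (AmpleLib.glocus_isInvertible_of_iso e hL')
    (PnEmb.isRelVeryAmplePn_of_iso e (isRelVeryAmplePn_of_fibres f' L' hL' hva' hH1'))

end Groth.Agent.RelVAFib14
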