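import Groth.Agent.PnEmb.Criterion
import Groth.Agent.RelVALib.UPFunctor
import Groth.Agent.RelVALib.UPProp
import Groth.Agent.Clifford24.FibreEmb
import Groth.Agent.CurveRR24.VeryAmple
import Groth.Agent.PicLib.PullbackGen

/-!
# Spanning sections of a very ample module on a proper scheme over a field embed
-/

set_option autoImplicit false
set_option linter.style.haveILetI false
set_option backward.isDefEq.respectTransparency.types false
set_option maxHeartbeats 1000000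

universe u

open CategoryTheory CategoryTheory.Limits AlgebraicGeometry Opposite TopologicalSpace
open Groth.Agent.Coherent Groth.Agent.PicLib Groth.Agent.AmpleLib

namespace Groth.Agent.RelVAFib14

variable {k : Type u} [CommRing k] {X : Scheme.{u}} (q : X ⟶ Spec (CommRingCat.of k)) {L : X.Modules}

/-- Sections: a linear combination. -/
noncomputable def comb {n : ℕ} (s : Fin (n + 1) → Γ(L, ⊤)) (c : Fin (n + 1) → k) : Γ(L, ⊤) :=
  ∑ i, ProjUP.toGlobal q (c i) • s i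

theorem comb_app {M : X.Modules} (φ : L ⟶ M) {n : ℕ} (s : Fin (n + 1) → Γ(L, ⊤)) (c : Fin (n + 1) → k) :
    φ.app ⊤ (comb q s c) = comb q (fun i => φ.app ⊤ (s i)) c := by
  simp only [comb, map_sum]
  exact Finset.sum_congr rfl fun i _ => Scheme.Modules.Hom.app_smul φ _ _

theorem pullSec_comb {Y : Scheme.{u}} (g : Y ⟶ X) (q' : Y ⟶ Spec (CommRingCat.of k)) (hq : g ≫ q = q')
    {n : ℕ} (s : Fin (n + 1) → Γ(L, ⊤)) (c : Fin (n + 1) → k) :
    pullSec g (U := ⊤) (comb q s c) = comb q' (fun i => pullSec g (U := ⊤) (s i)) c := by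
  subst hq
  simp only [comb]
  show (((Scheme.Modules.pullbackPushforwardAdjunction g).unit.app L).app ⊤) (∑ i, _) = _
  rw [map_sum]
  refine Finset.sum_congr rfl fun i _ => ?_
  refine (pullSec_smul (σ := g) _ (s i)).trans ?_
  rfl

/-- Some coordinate of a morphism to projective space does not vanish. -/
theorem exists_coord_mem {n : ℕ} {R : Type u} [CommRing R] (r : X ⟶ CohB1.ProjSpace n R)
    (τ : (Scheme.Modules.pullback r).obj (Twist.twistProjSpace n R 1) ≅ L) {σ : Fin (n + 1) → Γ(L, ⊤)}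
    (hτ : ∀ i, τ.hom.app ⊤ (ProjUP.pullSec r (Twist.twistProjSpace n R 1) (ProjUP.coord n R i)) = σ i) (x : X) :
    ∃ i, x ∈ glocus L (σ i) := by
  obtain ⟨l, hl⟩ := Opens.mem_iSup.1 ((Proj.iSup_basicOpen_eq_top (CohB1.polyGrading n R) _
    (ProjLib.irrelevant_le_span_X n _)).ge (show r x ∈ (⊤ : (CohB1.ProjSpace n R).Opens) from trivial))
  exact ⟨l, (PnEmb.preimage_chartOpen r τ hτ l).le hl⟩

theorem comb_mem_of_span (hL : PicF.IsInvertible L) {n : ℕ} (σ : Fin (n + 1) → Γ(L, ⊤)) (c : Fin (n + 1) → k)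
    (x : X) (h : x ∈ glocus L (comb q σ c)) : ∃ i, x ∈ glocus L (σ i) := by
  by_contra hcon
  push Not at hcon
  refine (CurveRR24.mem_glocus_iff_germ hL _ x).1 h ?_
  show L.presheaf.germ ⊤ x trivial (∑ i, ProjUP.toGlobal q (c i) • σ i) ∈ _
  rw [map_sum]
  refine Submodule.sum_mem _ fun i _ => ?_
  rw [QCohLoc.germ_smul']
  exact Submodule.smul_mem _ _ (not_not.1 ((CurveRR24.mem_glocus_iff_germ hL _ x).not.1 (hcon i)))

variable [IsProper q]

theorem isClosedImmersion_of_span (hL : PicF.IsInvertible L) (hva : RelAmple.IsRelVeryAmplePn q L)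
    {n : ℕ} (σ : Fin (n + 1) → Γ(L, ⊤)) (hσ : ∀ s : Γ(L, ⊤), ∃ c : Fin (n + 1) → k, comb q σ c = s)
    (r : X ⟶ CohB1.ProjSpace n k) (hr : r ≫ CohB1.ProjSpace.toSpec n k = q)
    (τ : (Scheme.Modules.pullback r).obj (Twist.twistProjSpace n k 1) ≅ L)
    (hτ : ∀ i, τ.hom.app ⊤ (ProjUP.pullSec r _ (ProjUP.coord n k i)) = σ i) :
    IsClosedImmersion r := by
  obtain ⟨m, j, hj, hjq, ⟨e⟩⟩ := hva
  let pr₁ := pullback.fst (CohB1.ProjSpace.toSpec m (ULift.{u} ℤ)) (specULiftZIsTerminal.from (Spec (CommRingCat.of k)))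
  let pr₂ := pullback.snd (CohB1.ProjSpace.toSpec m (ULift.{u} ℤ)) (specULiftZIsTerminal.from (Spec (CommRingCat.of k)))
  let a := j ≫ pr₁
  let τa : (Scheme.Modules.pullback a).obj (Twist.twistProjSpace m (ULift.{u} ℤ) 1) ≅ L :=
    ((Scheme.Modules.pullbackComp j pr₁).app _).symm ≪≫ e.symm
  let t : Fin (m + 1) → Γ(L, ⊤) := fun p => τa.hom.app ⊤ (ProjUP.pullSec a _ (ProjUP.coord m _ p))
  choose C hC using fun p => hσ (t p)
  let P := CohB1.ProjSpace n k
  let O := Twist.twistProjSpace n k 1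
  have hO : PicF.IsInvertible O :=
    PnEmb.isInvertible_twist_one (UPLib.adjoin_one_eq_top (UPLib.linForm_mem (R := k) n)
      (UPLib.isSymmetricAlgebra_linForm n))
  let x : Fin (n + 1) → Γ(O, ⊤) := fun i => ProjUP.coord n k i
  let g : Fin (m + 1) → Γ(O, ⊤) := fun p => comb (CohB1.ProjSpace.toSpec n k) x (C p)
  let W : P.Opens := ⨆ p, glocus O (g p)
  let qW := W.ι ≫ CohB1.ProjSpace.toSpec n k
  let M := (Scheme.Modules.pullback W.ι).obj O
  let g' : Fin (m + 1) → Γ(M, ⊤) := fun p => pullSec W.ι (U := ⊤) (g p)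
  obtain ⟨π, hπ, τπ, hτπ⟩ := UPLib.exists_hom_projSpace m (specULiftZIsTerminal.from W.toScheme)
    (PicLoc.isInvertible_pullback W.ι hO) g' fun w => by
      obtain ⟨p, hp⟩ := Opens.mem_iSup.1 w.2
      exact ⟨p, (glocus_pullSec W.ι hO (g p)).ge hp⟩
  -- the pullback of the combinations along `r`
  have hrg : ∀ p, τ.hom.app ⊤ (pullSec r (U := ⊤) (g p)) = t p := fun p => by
    rw [pullSec_comb (CohB1.ProjSpace.toSpec n k) r q hr x (C p)]
    refine (comb_app q τ.hom _ (C p)).trans ?_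
    rw [← hC p]
    exact congrArg (fun s => comb q s (C p)) (funext hτ)
  have hrW : Set.range r ⊆ Set.range W.ι := by
    rintro _ ⟨y, rfl⟩
    obtain ⟨p, hp⟩ := exists_coord_mem a τa (σ := t) (fun _ => rfl) y
    rw [Scheme.Opens.range_ι]
    refine Opens.mem_iSup.2 ⟨p, ?_⟩
    rw [← hrg p, glocus_map_iso, glocus_pullSec r hO (g p)] at hp
    exact hp
  let r' := IsOpenImmersion.lift W.ι r hrW
  have hr' : r' ≫ W.ι = r := IsOpenImmersion.lift_fac _ _ _
  obtain ⟨c, hc⟩ := RelVALib.exists_compIso r' W.ι r hr' O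
  obtain ⟨θ, hθ⟩ := Clifford24.exists_coordIso_ring r' π τπ (c.symm ≪≫ τ)
  have hπa : r' ≫ π = a := by
    refine UPLib.eq_of_iso_projSpace m (specULiftZIsTerminal.hom_ext _ _) (θ ≪≫ τa.symm) fun p => ?_
    show τa.inv.app ⊤ (θ.hom.app ⊤ _) = _
    have h1 : c.inv.app ⊤ (pullSec r' (U := ⊤) (g' p)) = pullSec r (U := ⊤) (g p) := by
      have h0 : c.hom.app ⊤ (pullSec r (U := ⊤) (g p)) = pullSec r' (U := ⊤) (g' p) :=
        (hc ⊤ (g p) le_rfl).trans (resM_self _ _ _)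
      rw [← h0]
      show (c.hom ≫ c.inv).app ⊤ _ = _
      rw [c.hom_inv_id]
      rfl
    have h2 : θ.hom.app ⊤ (ProjUP.pullSec (r' ≫ π) _ (ProjUP.coord m _ p)) = t p := by
      refine (hθ p).trans ((congrArg (fun s => (c.symm ≪≫ τ).hom.app ⊤ (pullSec r' (U := ⊤) s)) (hτπ p)).trans ?_)
      exact (congrArg (τ.hom.app ⊤) h1).trans (hrg p)
    rw [h2]
    show (τa.hom ≫ τa.inv).app ⊤ _ = _
    rw [τa.hom_inv_id]
    rfl
  let Q' : W.toScheme ⟶ CohB1.ProjSpaceOver m (Spec (CommRingCat.of k)) :=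
    pullback.lift π qW (specULiftZIsTerminal.hom_ext _ _)
  have hjr : r' ≫ Q' = j := by
    refine pullback.hom_ext ?_ ?_
    · exact (Category.assoc _ _ _).trans ((congrArg (r' ≫ ·) (pullback.lift_fst _ _ _)).trans hπa)
    · refine (Category.assoc _ _ _).trans ((congrArg (r' ≫ ·) (pullback.lift_snd _ _ _)).trans ?_)
      rw [← Category.assoc, hr', hr]
      exact hjq.symm
  haveI : IsProper (CohB1.ProjSpace.toSpec n k) := Coherent.isProper_projSpace_toSpec n k
  haveI : IsSeparated qW := inferInstance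
  haveI : IsSeparated Q' := by
    haveI : IsSeparated (Q' ≫ pr₂) := by
      rw [show Q' ≫ pr₂ = qW from pullback.lift_snd _ _ _]
      infer_instance
    exact IsSeparated.of_comp Q' pr₂
  haveI : IsImmersion (r' ≫ Q') := by rw [hjr]; exact hj
  haveI : IsImmersion r' := IsImmersion.of_comp r' Q'
  haveI : IsImmersion r := hr' ▸ inferInstanceAs (IsImmersion (r' ≫ W.ι))
  haveI : IsProper r := by
    haveI : IsProper (r ≫ CohB1.ProjSpace.toSpec n k) := by rw [hr]; infer_instance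
    exact IsProper.of_comp r (CohB1.ProjSpace.toSpec n k)
  exact IsClosedImmersion.of_isPreimmersion r r.isClosedMap.isClosed_range

theorem exists_mem_of_span (hL : PicF.IsInvertible L) (hva : RelAmple.IsRelVeryAmplePn q L)
    {n : ℕ} (σ : Fin (n + 1) → Γ(L, ⊤)) (hσ : ∀ s : Γ(L, ⊤), ∃ c : Fin (n + 1) → k, comb q σ c = s) (x : X) :
    ∃ i, x ∈ glocus L (σ i) := by
  obtain ⟨m, j, hj, hjq, ⟨e⟩⟩ := hva
  let pr₁ := pullback.fst (CohB1.ProjSpace.toSpec m (ULift.{u} ℤ)) (specULiftZIsTerminal.from (Spec (CommRingCat.of k)))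
  let τa : (Scheme.Modules.pullback (j ≫ pr₁)).obj (Twist.twistProjSpace m (ULift.{u} ℤ) 1) ≅ L :=
    ((Scheme.Modules.pullbackComp j pr₁).app _).symm ≪≫ e.symm
  obtain ⟨p, hp⟩ := exists_coord_mem (j ≫ pr₁) τa (fun _ => rfl) x
  obtain ⟨c, hc⟩ := hσ (τa.hom.app ⊤ (ProjUP.pullSec (j ≫ pr₁) _ (ProjUP.coord m _ p)))
  exact comb_mem_of_span q hL σ c x (hc.symm ▸ hp)

end Groth.Agent.RelVAFib14
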